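import Cfsg.Agent.H514.K547.Parity
import Cfsg.Agent.Blocks.PrincipalInflate
import Cfsg.Agent.S4548
import Cfsg.Agent.S4550

/-!
# S4547: the number of good characters in the words of the statements (helper191)

* `good_iff`, `fg_eq_card` : `fg G` is the cardinality in S4547, S4548, S4550;
* `isCyclic_iff_fg` : S4548 for `fg`;
* `even_fg` : S4550 for `fg`;
* `fg_pos`, `fg_of_odd` : at least one, exactly one for a group of odd order;
* `eq_of_smul` : proportional irreducible characters are equal.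
-/

set_option autoImplicit false

open Cfsg Cfsg.Agent.Characters.Core Cfsg.Agent.H601.K4 Cfsg.Agent.H514.K547 Cfsg.Agent.H618.Sigma

namespace Cfsg.Agent.H191.K547

universe u

variable {G : Type u} [Group G] [Finite G]

/-- the good characters in the words of the statements -/
theorem good_iff {M : Ideal AlgInt} (hM : IsPModular 2 M) {k : ℕ}
    (hk₁ : ∀ g : G, (∃ j : ℕ, orderOf g = 2 ^ j) → g ^ k = g ^ 3) (hk₂ : ∀ g : G, Odd (orderOf g) → g ^ k = g)
    (χ : IrrCharacter G) : Good (χ : G → ℂ) ↔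
      χ ∈ principalBlock M G ∧ Odd (charDegree (χ : G → ℂ)) ∧ ∀ g : G, (χ : G → ℂ) (g ^ k) = (χ : G → ℂ) g := by
  constructor
  · intro h
    exact ⟨h.b0 M hM χ.2, odd_iff.2 h.odd.2, h.sig k hk₁ hk₂⟩
  · rintro ⟨h1, h2, h3⟩
    exact ⟨⟨χ.2, odd_iff.1 h2⟩, H740.K4.sigFix_of ⟨hk₁, hk₂⟩ h3, inB0_of_mem hM χ.2 h1⟩

/-- **The number of good characters.** -/
theorem fg_eq_card {M : Ideal AlgInt} (hM : IsPModular 2 M) {k : ℕ}
    (hk₁ : ∀ g : G, (∃ j : ℕ, orderOf g = 2 ^ j) → g ^ k = g ^ 3) (hk₂ : ∀ g : G, Odd (orderOf g) → g ^ k = g) :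
    fg G = Nat.card {χ : IrrCharacter G // χ ∈ principalBlock M G ∧ Odd (charDegree (χ : G → ℂ)) ∧
      ∀ g : G, (χ : G → ℂ) (g ^ k) = (χ : G → ℂ) g} := by
  have h1 : gs G = Subtype.val '' {χ : IrrCharacter G | χ ∈ principalBlock M G ∧ Odd (charDegree (χ : G → ℂ)) ∧
      ∀ g : G, (χ : G → ℂ) (g ^ k) = (χ : G → ℂ) g} := by
    ext χ
    constructor
    · intro h
      exact ⟨⟨χ, Good.odd h |>.1⟩, (good_iff hM hk₁ hk₂ _).1 h, rfl⟩
    · rintro ⟨ψ, h, rfl⟩
      exact (good_iff hM hk₁ hk₂ ψ).2 h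
  rw [fg, h1, Set.ncard_image_of_injective _ Subtype.val_injective]
  rfl

/-- S4548 -/
theorem isCyclic_iff_fg (hev : Even (Nat.card G)) (P : Sylow 2 G) : IsCyclic P ↔ fg G = 2 := by
  obtain ⟨M, hM⟩ := Cfsg.Agent.Blocks.ExistsModular.exists_isPModular Nat.prime_two
  obtain ⟨k, hk⟩ := H740.K4.exists_cube G
  rw [fg_eq_card hM hk.two hk.odd]
  exact S4548.result M hM hev P k hk.two hk.odd

/-- S4550 -/
theorem even_fg (hev : Even (Nat.card G)) : Even (fg G) := by
  obtain ⟨M, hM⟩ := Cfsg.Agent.Blocks.ExistsModular.exists_isPModular Nat.prime_two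
  obtain ⟨k, hk⟩ := H740.K4.exists_cube G
  rw [fg_eq_card hM hk.two hk.odd]
  exact S4550.result M hM hev k hk.two hk.odd

theorem fg_pos : 0 < fg G := by
  rw [fg, Set.ncard_pos (gs_finite G)]
  exact ⟨_, one_mem_gs G⟩

/-- proportional irreducible characters are equal -/
theorem eq_of_smul {χ ψ : G → ℂ} (hχ : IsIrrCharacter G χ) (hψ : IsIrrCharacter G ψ) {c : ℂ} (hc : c ≠ 0)
    (h : ∀ g, ψ g = c * χ g) : ψ = χ := by
  have := Fintype.ofFinite G
  by_contra hne
  have h1 := classInner_irr_ne hψ hχ hne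
  have h2 : ψ = c • χ := funext h
  rw [h2, classInner_smul_left, classInner_irr_self hχ, mul_one] at h1
  exact hc h1

/-- a group of odd order has one good character -/
theorem fg_of_odd (hodd : ¬ 2 ∣ Nat.card G) : fg G = 1 := by
  have : Fact (Nat.Prime 2) := ⟨Nat.prime_two⟩
  obtain ⟨M, hM⟩ := Cfsg.Agent.Blocks.ExistsModular.exists_isPModular Nat.prime_two
  rw [fg, Set.ncard_eq_one]
  refine ⟨fun _ => 1, Set.eq_singleton_iff_unique_mem.2 ⟨one_mem_gs G, fun χ hχ => ?_⟩⟩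
  have h1 : Good χ := hχ
  refine eq_of_smul Cfsg.Agent.Blocks.Basic.isIrrCharacter_one h1.odd.1 (isIrr_apply_one_ne_zero h1.odd.1) fun g => ?_
  have h2 := Cfsg.Agent.Blocks.PrincipalInflate.apply_mul hM (N := (⊤ : Subgroup G))
    (by rwa [Subgroup.card_top]) (h1.b0 M hM h1.odd.1) (Subgroup.mem_top g) 1
  rw [mul_one] at h2
  rw [mul_one]
  exact h2

end Cfsg.Agent.H191.K547
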