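import Cfsg.Agent.H191.K547.Bridge
import Cfsg.Agent.H590.OddPrincipal
import Cfsg.Agent.Blocks.Central

/-!
# S4547: good characters of a direct product (helper191)

* `good_outer` : the outer product of good characters is good;
* `exists_of_good_outer` : the good characters of `A × B`;
* `ncard_gsx` : `N ≃ L × L` such that the automorphism given by `z` becomes `(u, v) ↦ (v ^ y, u)`: the good
  characters of `N` fixed by `z` are as many as the good characters of `L` fixed by `y`;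
* `card_homx` : the same for the homomorphisms into `±1`.
-/

set_option autoImplicit false

open Cfsg Cfsg.Agent.Characters.Core Cfsg.Agent.H601.K4 Cfsg.Agent.H514.K547 Cfsg.Agent.H618.Sigma

namespace Cfsg.Agent.H191.K547

open Cfsg.Agent.Blocks.Local Cfsg.Agent.Blocks.Basic

universe u v

section outer

variable {A : Type u} {B : Type v} [Group A] [Group B]

theorem charDegree_outer {φ : A → ℂ} {ψ : B → ℂ} (hφ : IsIrrCharacter A φ) (hψ : IsIrrCharacter B ψ) :
    charDegree (fun x : A × B => φ x.1 * ψ x.2) = charDegree φ * charDegree ψ := by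
  apply Cfsg.Agent.Blocks.Basic.charDegree_of_eq
  push_cast
  simp only [Prod.fst_one, Prod.snd_one]
  rw [Cfsg.Agent.Blocks.Basic.irr_one_eq_charDegree hφ, Cfsg.Agent.Blocks.Basic.irr_one_eq_charDegree hψ]

theorem cube_left {k : ℕ} (h : Cube (A × B) k) : Cube A k := by
  refine ⟨fun a ha => ?_, fun a ha => ?_⟩
  · have h1 := h.two ((a, 1) : A × B) (by
      obtain ⟨j, hj⟩ := ha
      exact ⟨j, by rw [Prod.orderOf_mk, orderOf_one, Nat.lcm_one_right, hj]⟩)
    exact congrArg Prod.fst h1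
  · have h1 := h.odd ((a, 1) : A × B) (by rwa [Prod.orderOf_mk, orderOf_one, Nat.lcm_one_right])
    exact congrArg Prod.fst h1

theorem cube_right {k : ℕ} (h : Cube (A × B) k) : Cube B k := by
  refine ⟨fun a ha => ?_, fun a ha => ?_⟩
  · have h1 := h.two ((1, a) : A × B) (by
      obtain ⟨j, hj⟩ := ha
      exact ⟨j, by rw [Prod.orderOf_mk, orderOf_one, Nat.lcm_one_left, hj]⟩)
    exact congrArg Prod.snd h1
  · have h1 := h.odd ((1, a) : A × B) (by rwa [Prod.orderOf_mk, orderOf_one, Nat.lcm_one_left])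
    exact congrArg Prod.snd h1

theorem centralizer_pair (a : A) (b : B) :
    Subgroup.centralizer ({(a, b)} : Set (A × B)) =
      (Subgroup.centralizer ({a} : Set A)).prod (Subgroup.centralizer ({b} : Set B)) := by
  ext ⟨x, y⟩
  simp only [Subgroup.mem_prod, Subgroup.mem_centralizer_singleton_iff, Prod.mk_mul_mk, Prod.mk.injEq]

theorem centralChar_outer (φ : A → ℂ) (ψ : B → ℂ) (a : A) (b : B) :
    centralChar (fun x : A × B => φ x.1 * ψ x.2) (a, b) = centralChar φ a * centralChar ψ b := by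
  unfold centralChar
  rw [centralizer_pair, Subgroup.index_prod]
  push_cast
  rw [div_mul_div_comm]
  congr 1
  ring

variable [Finite A] [Finite B]

/-- the outer product of characters in the principal blocks -/
theorem mem_outer {M : Ideal AlgInt} [M.IsPrime] {α : IrrCharacter A}
    (hα : α ∈ principalBlock M A) {β : IrrCharacter B} (hβ : β ∈ principalBlock M B)
    (hi : IsIrrCharacter (A × B) (fun x : A × B => (α : A → ℂ) x.1 * (β : B → ℂ) x.2)) :
    (⟨fun x => (α : A → ℂ) x.1 * (β : B → ℂ) x.2, hi⟩ : IrrCharacter (A × B)) ∈ principalBlock M (A × B) := by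
  rintro ⟨a, b⟩
  have h1 : centralChar (fun _ : A × B => (1 : ℂ)) (a, b) =
      centralChar (fun _ : A => (1 : ℂ)) a * centralChar (fun _ : B => (1 : ℂ)) b := by
    rw [← centralChar_outer]
    simp only [mul_one]
  show MemLocalIdeal M (centralChar (fun _ : A × B => (1 : ℂ)) (a, b) -
    centralChar (fun x : A × B => (α : A → ℂ) x.1 * (β : B → ℂ) x.2) (a, b))
  rw [h1, centralChar_outer]
  refine memLocalIdeal_mul_sub_mul ?_ ?_ (hα a) (hβ b)
  · exact memLocalRing_of_isIntegral (Cfsg.Agent.Blocks.Central.isIntegral_centralChar isIrrCharacter_one a)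
  · exact memLocalRing_of_isIntegral (Cfsg.Agent.Blocks.Central.isIntegral_centralChar β.2 b)

/-- **The outer product of good characters.** -/
theorem good_outer {φ : A → ℂ} {ψ : B → ℂ} (hφ : Good φ) (hψ : Good ψ) :
    Good (fun x : A × B => φ x.1 * ψ x.2) := by
  have hi := Cfsg.Agent.S0188.isIrr_outer hφ.odd.1 hψ.odd.1
  refine ⟨⟨hi, ?_⟩, ?_, ?_⟩
  · rw [charDegree_outer hφ.odd.1 hψ.odd.1, Nat.prime_two.dvd_mul]
    rintro (h | h)
    · exact hφ.odd.2 h
    · exact hψ.odd.2 h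
  · intro k h1 h2 g
    have hk : Cube (A × B) k := ⟨h1, h2⟩
    have e1 := hφ.sig k (cube_left hk).two (cube_left hk).odd g.1
    have e2 := hψ.sig k (cube_right hk).two (cube_right hk).odd g.2
    show φ (g.1 ^ k) * ψ (g.2 ^ k) = φ g.1 * ψ g.2
    rw [e1, e2]
  · intro M hM hi'
    have : M.IsPrime := hM.2.1.isPrime
    exact mem_outer (hφ.b0 M hM hφ.odd.1) (hψ.b0 M hM hψ.odd.1) hi'

/-- **The good characters of a direct product.** -/
theorem exists_of_good_outer {χ : A × B → ℂ} (h : Good χ) :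
    ∃ (φ : A → ℂ) (ψ : B → ℂ), Good φ ∧ Good ψ ∧ χ = fun x => φ x.1 * ψ x.2 := by
  obtain ⟨φ, ψ, hφ, hψ, he⟩ := (S0188.result χ).1 h.odd.1
  obtain ⟨k, hk⟩ := H740.K4.exists_cube (A × B)
  have hd : charDegree χ = charDegree φ * charDegree ψ := by rw [he, charDegree_outer hφ hψ]
  have hp := Cfsg.Agent.Characters.Core.isIrr_apply_one_ne_zero hφ
  have hq := Cfsg.Agent.Characters.Core.isIrr_apply_one_ne_zero hψ
  have hs := h.sig k hk.two hk.odd
  have hodd := h.odd.2
  rw [hd, Nat.prime_two.dvd_mul, not_or] at hodd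
  refine ⟨φ, ψ, ⟨⟨hφ, hodd.1⟩, ?_, ?_⟩, ⟨⟨hψ, hodd.2⟩, ?_, ?_⟩, he⟩
  · refine H740.K4.sigFix_of (cube_left hk) fun a => ?_
    have h1 : χ (a ^ k, 1 ^ k) = χ (a, 1) := hs (a, 1)
    rw [one_pow, he] at h1
    exact mul_right_cancel₀ hq h1
  · intro M hM hi
    exact H590.OddPrincipal.mem_of_prod (χ := ⟨χ, h.odd.1⟩) (φ := ⟨φ, hi⟩) (ψ := ⟨ψ, hψ⟩) (h.b0 M hM h.odd.1) he
  · refine H740.K4.sigFix_of (cube_right hk) fun b => ?_
    have h1 : χ (1 ^ k, b ^ k) = χ (1, b) := hs (1, b)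
    rw [one_pow, he] at h1
    exact mul_left_cancel₀ hp h1
  · intro M hM hi
    exact H590.OddPrincipal.mem_of_prod' (χ := ⟨χ, h.odd.1⟩) (φ := ⟨φ, hφ⟩) (ψ := ⟨ψ, hi⟩) (h.b0 M hM h.odd.1) he

end outer

/-- **Two factors which are swapped: the characters.** -/
theorem ncard_gsx {G : Type u} [Group G] [Finite G] (N : Subgroup G) [N.Normal] (z : G) {G' : Type v} [Group G']
    [Finite G'] (L : Subgroup G') [L.Normal] (y : G') (E : N ≃* L × L)
    (hE : ∀ n : N, E (MulAut.conjNormal z n) = (MulAut.conjNormal y (E n).2, (E n).1)) :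
    (gsx N z).ncard = (gsx L y).ncard := by
  symm
  refine Set.ncard_congr (fun φ _ n => φ (E n).1 * φ (E n).2) ?_ ?_ ?_
  · intro φ hφ
    refine ⟨H740.K4.good_comp E (good_outer hφ.1 hφ.1), fun n => ?_⟩
    show φ (E (MulAut.conjNormal z n)).1 * φ (E (MulAut.conjNormal z n)).2 = φ (E n).1 * φ (E n).2
    rw [hE, hφ.2, mul_comm]
  · intro φ ψ hφ hψ h
    have h1 : ∀ u v : L, φ u * φ v = ψ u * ψ v := by
      intro u v
      have h2 := congrFun h (E.symm (u, v))
      simpa using h2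
    have hp := isIrr_apply_one_ne_zero hφ.1.odd.1
    have hq := isIrr_apply_one_ne_zero hψ.1.odd.1
    refine eq_of_smul hψ.1.odd.1 hφ.1.odd.1 (div_ne_zero hq hp) fun g => ?_
    rw [div_mul_eq_mul_div, eq_div_iff hp, h1, mul_comm]
  · intro θ hθ
    have h1 : Good (fun x : L × L => θ (E.symm x)) := H740.K4.good_comp E.symm hθ.1
    obtain ⟨φ, ψ, hφ, hψ, he⟩ := exists_of_good_outer h1
    have h2 : ∀ u v : L, θ (E.symm (u, v)) = φ u * ψ v := fun u v => congrFun he (u, v)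
    have h3 : ∀ u v : L, φ (MulAut.conjNormal y v) * ψ u = φ u * ψ v := by
      intro u v
      have h4 := hE (E.symm (u, v))
      rw [E.apply_symm_apply] at h4
      have h5 := hθ.2 (E.symm (u, v))
      rw [← E.symm_apply_apply (MulAut.conjNormal z (E.symm (u, v))), h4, h2, h2] at h5
      exact h5
    have hp := isIrr_apply_one_ne_zero hφ.odd.1
    have hq := isIrr_apply_one_ne_zero hψ.odd.1
    have h4 : ψ = φ := by
      refine eq_of_smul hφ.odd.1 hψ.odd.1 (div_ne_zero hq hp) fun g => ?_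
      rw [div_mul_eq_mul_div, eq_div_iff hp]
      have h5 := h3 g 1
      rw [map_one] at h5
      rw [mul_comm, h5, mul_comm]
    subst h4
    refine ⟨ψ, ⟨hφ, fun v => ?_⟩, ?_⟩
    · have h5 := h3 1 v
      rw [mul_comm] at h5
      exact mul_left_cancel₀ hp h5
    · funext n
      rw [← h2, Prod.mk.eta, E.symm_apply_apply]

/-- **Two factors which are swapped: the homomorphisms into `±1`.** -/
theorem card_homx {G : Type u} [Group G] (Q : Subgroup G) (z : G) (hz : ∀ q ∈ Q, z * q * z⁻¹ ∈ Q) {G' : Type v}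
    [Group G'] (Q' : Subgroup G') (y : G') (hy : ∀ q ∈ Q', y * q * y⁻¹ ∈ Q') (E : Q ≃* Q' × Q')
    (hE : ∀ q : Q, E ⟨z * q * z⁻¹, hz q q.2⟩ = (⟨y * (E q).2 * y⁻¹, hy _ (E q).2.2⟩, (E q).1)) :
    Nat.card {l : ↥Q →* ℤˣ // ∀ (q : ↥Q) (h : z * q * z⁻¹ ∈ Q), l ⟨z * q * z⁻¹, h⟩ = l q} =
      Nat.card {l : ↥Q' →* ℤˣ // ∀ (q : ↥Q') (h : y * q * y⁻¹ ∈ Q'), l ⟨y * q * y⁻¹, h⟩ = l q} := by
  have key : ∀ m : ↥Q →* ℤˣ, (∀ (q : ↥Q) (h : z * q * z⁻¹ ∈ Q), m ⟨z * q * z⁻¹, h⟩ = m q) → ∀ u v : Q',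
      m (E.symm (⟨y * v * y⁻¹, hy v v.2⟩, u)) = m (E.symm (u, v)) := by
    intro m hm u v
    have h1 := hE (E.symm (u, v))
    rw [← hm (E.symm (u, v)) (hz _ (E.symm (u, v)).2)]
    congr 1
    rw [E.symm_apply_eq, h1]
    simp only [E.apply_symm_apply]
  refine Nat.card_congr
    { toFun := fun m => ⟨(m.1.comp E.symm.toMonoidHom).comp (MonoidHom.inl _ _), ?_⟩
      invFun := fun l => ⟨(l.1.comp ((MonoidHom.fst _ _).comp E.toMonoidHom)) *
        (l.1.comp ((MonoidHom.snd _ _).comp E.toMonoidHom)), ?_⟩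
      left_inv := ?_
      right_inv := ?_ }
  · intro v hv
    show m.1 (E.symm (⟨y * v * y⁻¹, hv⟩, 1)) = m.1 (E.symm (v, 1))
    have h1 := key m.1 m.2 1 v
    have h2 := key m.1 m.2 v 1
    have h3 : (⟨y * (1 : Q') * y⁻¹, hy 1 (one_mem Q')⟩ : Q') = 1 := Subtype.ext (by simp)
    have h4 : m.1 (E.symm (1, v)) = m.1 (E.symm (v, 1)) := by
      rw [← h2]
      congr 2
      rw [Prod.mk.injEq]
      exact ⟨h3.symm, rfl⟩
    rw [← h4, ← h1]
  · intro q hq
    show l.1 (E ⟨z * q * z⁻¹, hq⟩).1 * l.1 (E ⟨z * q * z⁻¹, hq⟩).2 = l.1 (E q).1 * l.1 (E q).2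
    rw [hE q, l.2, mul_comm]
  · rintro ⟨m, hm⟩
    apply Subtype.ext
    refine MonoidHom.ext fun q => ?_
    show m (E.symm ((E q).1, 1)) * m (E.symm ((E q).2, 1)) = m q
    have h2 := key m hm (E q).2 1
    have h3 : (⟨y * (1 : Q') * y⁻¹, hy 1 (one_mem Q')⟩ : Q') = 1 := Subtype.ext (by simp)
    have h4 : m (E.symm (1, (E q).2)) = m (E.symm ((E q).2, 1)) := by
      rw [← h2]
      congr 2
      rw [Prod.mk.injEq]
      exact ⟨h3.symm, rfl⟩
    rw [← h4, ← map_mul, ← map_mul, Prod.mk_mul_mk, one_mul, mul_one, Prod.mk.eta, E.symm_apply_apply]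
  · rintro ⟨l, hl⟩
    apply Subtype.ext
    refine MonoidHom.ext fun q => ?_
    show l (E (E.symm (q, 1))).1 * l (E (E.symm (q, 1))).2 = l q
    rw [E.apply_symm_apply, map_one, mul_one]

end Cfsg.Agent.H191.K547
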