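import Cfsg.Agent.H191.K547.Prod
import Cfsg.Agent.H220.K547.Resid
import Cfsg.Agent.H220.K547.HomResid
import Cfsg.Agent.H396.K547.Rank
import Cfsg.Agent.Transfer.FrobeniusFusion
import Cfsg.Agent.Transfer.Residual

/-!
# S4547 [K2]: two factors of `O²(G)` which are swapped (helper191)

`N = O²(G) = N₁ × N₂`, `G = N <x>`, `x` swaps `N₁` and `N₂`: `swap`, the statement `TT` for a smaller group gives it
for `G`. After replacing `x` by its 2-part `z` the smaller group is `N <z²> / N₂`.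
-/

set_option autoImplicit false

namespace Cfsg.Agent.H191.K547

open Cfsg Subgroup Cfsg.Agent.H601.K4 Cfsg.Agent.H821.K547 Cfsg.Agent.H514.K547

universe u

variable {G : Type u} [Group G]

/-- two factors of `N` swapped by `z` -/
structure SwapData (N N₁ N₂ : Subgroup G) (z : G) : Prop where
  inf : ∀ g ∈ N₁, g ∈ N₂ → g = 1
  le1 : N₁ ≤ N
  le2 : N₂ ≤ N
  dec : ∀ g ∈ N, ∃ a ∈ N₁, ∃ b ∈ N₂, a * b = g
  nor1 : ∀ n ∈ N, ∀ g ∈ N₁, n * g * n⁻¹ ∈ N₁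
  nor2 : ∀ n ∈ N, ∀ g ∈ N₂, n * g * n⁻¹ ∈ N₂
  z12 : ∀ g ∈ N₁, z * g * z⁻¹ ∈ N₂
  z21 : ∀ g ∈ N₂, z * g * z⁻¹ ∈ N₁
  z12' : ∀ g ∈ N₁, z⁻¹ * g * z ∈ N₂
  z21' : ∀ g ∈ N₂, z⁻¹ * g * z ∈ N₁

theorem SwapData.mk' {N N₁ N₂ : Subgroup G} {x : G} (h1 : N₁ ⊓ N₂ = ⊥) (h2 : N₁ ⊔ N₂ = N)
    (h3 : ∀ a ∈ N₁, ∀ b ∈ N₂, Commute a b)
    (h4 : N₁.map (MulAut.conj x).toMonoidHom = N₂) (h5 : N₂.map (MulAut.conj x).toMonoidHom = N₁) :
    SwapData N N₁ N₂ x := by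
  have c1 : N₂ ≤ normalizer (N₁ : Set G) := by
    intro b hb
    rw [mem_normalizer_iff]
    intro a
    constructor
    · intro ha
      rw [← (h3 a ha b hb).eq, mul_inv_cancel_right]
      exact ha
    · intro ha
      have e := (h3 _ ha b⁻¹ (inv_mem hb)).eq
      have e2 : a = b⁻¹ * (b * a * b⁻¹) * b := by group
      rw [e2, ← e, inv_mul_cancel_right]
      exact ha
  have c2 : N₁ ≤ normalizer (N₂ : Set G) := by
    intro b hb
    rw [mem_normalizer_iff]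
    intro a
    constructor
    · intro ha
      rw [(h3 b hb a ha).eq, mul_inv_cancel_right]
      exact ha
    · intro ha
      have e := (h3 b⁻¹ (inv_mem hb) _ ha).eq
      have e2 : a = b⁻¹ * (b * a * b⁻¹) * b := by group
      rw [e2, e, inv_mul_cancel_right]
      exact ha
  have n1 : N ≤ normalizer (N₁ : Set G) := h2 ▸ sup_le le_normalizer c1
  have n2 : N ≤ normalizer (N₂ : Set G) := h2 ▸ sup_le c2 le_normalizer
  refine ⟨fun g ha hb => ?_, h2 ▸ le_sup_left, h2 ▸ le_sup_right, fun g hg => ?_, fun n hn g hg => ?_,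
    fun n hn g hg => ?_, fun g hg => ?_, fun g hg => ?_, fun g hg => ?_, fun g hg => ?_⟩
  · have : g ∈ N₁ ⊓ N₂ := ⟨ha, hb⟩
    rwa [h1, mem_bot] at this
  · have h : g ∈ ((N₁ ⊔ N₂ : Subgroup G) : Set G) := by rw [h2]; exact hg
    rw [coe_mul_of_left_le_normalizer_right N₁ N₂ c2] at h
    obtain ⟨a, ha, b, hb, rfl⟩ := h
    exact ⟨a, ha, b, hb, rfl⟩
  · exact (mem_normalizer_iff.1 (n1 hn) g).1 hg
  · exact (mem_normalizer_iff.1 (n2 hn) g).1 hg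
  · rw [← h4]
    exact ⟨g, hg, rfl⟩
  · rw [← h5]
    exact ⟨g, hg, rfl⟩
  · rw [← h5] at hg
    obtain ⟨a, ha, rfl⟩ := hg
    have e : x⁻¹ * (MulAut.conj x).toMonoidHom a * x = a := by
      show x⁻¹ * (x * a * x⁻¹) * x = a
      group
    rw [e]
    exact ha
  · rw [← h4] at hg
    obtain ⟨a, ha, rfl⟩ := hg
    have e : x⁻¹ * (MulAut.conj x).toMonoidHom a * x = a := by
      show x⁻¹ * (x * a * x⁻¹) * x = a
      group
    rw [e]
    exact ha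

/-- multiplication by an element of `N` -/
theorem SwapData.mul {N N₁ N₂ : Subgroup G} {x w : G} (D : SwapData N N₁ N₂ x) (hw : w ∈ N) :
    SwapData N N₁ N₂ (x * w) := by
  have hw' := inv_mem hw
  refine { D with z12 := fun g hg => ?_, z21 := fun g hg => ?_, z12' := fun g hg => ?_, z21' := fun g hg => ?_ }
  · have := D.z12 _ (D.nor1 w hw g hg)
    have e : x * w * g * (x * w)⁻¹ = x * (w * g * w⁻¹) * x⁻¹ := by group
    rwa [e]
  · have := D.z21 _ (D.nor2 w hw g hg)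
    have e : x * w * g * (x * w)⁻¹ = x * (w * g * w⁻¹) * x⁻¹ := by group
    rwa [e]
  · have := D.nor2 _ hw' _ (D.z12' g hg)
    have e : (x * w)⁻¹ * g * (x * w) = w⁻¹ * (x⁻¹ * g * x) * w⁻¹⁻¹ := by group
    rwa [e]
  · have := D.nor1 _ hw' _ (D.z21' g hg)
    have e : (x * w)⁻¹ * g * (x * w) = w⁻¹ * (x⁻¹ * g * x) * w⁻¹⁻¹ := by group
    rwa [e]

section main

variable {N N₁ N₂ : Subgroup G} {z : G} {H : Subgroup G} (hNH : N ≤ H) {G' : Type u} [Group G'] (f : H →* G')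

/-- the image of `N` -/
def LL (N : Subgroup G) : Subgroup G' := (N.subgroupOf H).map f

theorem LL_normal [N.Normal] (hf : Function.Surjective f) : (LL f N).Normal :=
  Subgroup.Normal.map inferInstance f hf

/-- the projection to the first factor -/
def pr : N →* LL f N where
  toFun n := ⟨f ⟨n, hNH n.2⟩, ⟨n, hNH n.2⟩, n.2, rfl⟩
  map_one' := Subtype.ext (map_one f)
  map_mul' a b := Subtype.ext (map_mul f ⟨a, hNH a.2⟩ ⟨b, hNH b.2⟩)

theorem pr_coe (n : N) : (pr hNH f n : G') = f ⟨n, hNH n.2⟩ := rfl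

/-- both projections -/
def EE [N.Normal] (z : G) : N →* LL f N × LL f N :=
  (pr hNH f).prod ((pr hNH f).comp (MulAut.conjNormal z⁻¹).toMonoidHom)

theorem EE_bij [N.Normal] (D : SwapData N N₁ N₂ z) (hk : ∀ h : H, f h = 1 ↔ (h : G) ∈ N₂) :
    Function.Bijective (EE hNH f z) := by
  have hk' : ∀ n : N, pr hNH f n = 1 ↔ (n : G) ∈ N₂ := by
    intro n
    rw [← hk ⟨n, hNH n.2⟩, ← pr_coe hNH f, OneMemClass.coe_eq_one]
  constructor
  · rw [injective_iff_map_eq_one]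
    intro n hn
    have h1 : (n : G) ∈ N₂ := (hk' n).1 (congrArg Prod.fst hn)
    have h2 := (hk' _).1 (congrArg Prod.snd hn)
    have h3 : z⁻¹ * (n : G) * z ∈ N₂ := by
      have e : ((MulAut.conjNormal z⁻¹ n : N) : G) = z⁻¹ * (n : G) * z := by
        rw [MulAut.conjNormal_apply, inv_inv]
      rw [← e]
      exact h2
    have h4 := D.z21 _ h3
    have e : z * (z⁻¹ * (n : G) * z) * z⁻¹ = n := by group
    rw [e] at h4
    exact Subtype.ext (D.inf _ h4 h1)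
  · rintro ⟨⟨_, ⟨a, ha⟩, ha', rfl⟩, ⟨_, ⟨b, hb⟩, hb', rfl⟩⟩
    have ha1 : a ∈ N := ha'
    have hb1 : b ∈ N := hb'
    obtain ⟨a₁, ha₁, a₂, ha₂, rfl⟩ := D.dec a ha1
    have hb2 : z * b * z⁻¹ ∈ N := Subgroup.Normal.conj_mem inferInstance b hb1 z
    obtain ⟨c₁, hc₁, c₂, hc₂, hc⟩ := D.dec _ hb2
    have key : ∀ (u v : G) (hu : u ∈ H) (hv : v ∈ H), v⁻¹ * u ∈ N₂ → f ⟨u, hu⟩ = f ⟨v, hv⟩ := by
      intro u v hu hv h
      have h1 := (hk ⟨v⁻¹ * u, mul_mem (inv_mem hv) hu⟩).2 h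
      have e : (⟨v⁻¹ * u, mul_mem (inv_mem hv) hu⟩ : H) = ⟨v, hv⟩⁻¹ * ⟨u, hu⟩ := rfl
      rw [e, map_mul, map_inv, inv_mul_eq_one] at h1
      exact h1.symm
    refine ⟨⟨a₁ * c₂, mul_mem (D.le1 ha₁) (D.le2 hc₂)⟩, Prod.ext (Subtype.ext ?_) (Subtype.ext ?_)⟩
    · refine key _ _ _ _ ?_
      have e : (a₁ * a₂)⁻¹ * (a₁ * c₂) = a₂⁻¹ * c₂ := by group
      rw [e]
      exact mul_mem (inv_mem ha₂) hc₂
    · have e0 : ((MulAut.conjNormal z⁻¹ ⟨a₁ * c₂, mul_mem (D.le1 ha₁) (D.le2 hc₂)⟩ : N) : G) =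
          z⁻¹ * (a₁ * c₂) * z := by
        rw [MulAut.conjNormal_apply, inv_inv]
      refine key _ _ _ _ ?_
      change b⁻¹ * ((MulAut.conjNormal z⁻¹ ⟨a₁ * c₂, mul_mem (D.le1 ha₁) (D.le2 hc₂)⟩ : N) : G) ∈ N₂
      rw [e0]
      have e : b = z⁻¹ * (c₁ * c₂) * z := by rw [hc]; group
      have e1 : b⁻¹ * (z⁻¹ * (a₁ * c₂) * z) = z⁻¹ * (c₂⁻¹ * (c₁⁻¹ * a₁) * c₂) * z := by rw [e]; group
      rw [e1]
      refine D.z12' _ ?_
      have e2 : c₂⁻¹ * (c₁⁻¹ * a₁) * c₂ = c₂⁻¹ * (c₁⁻¹ * a₁) * c₂⁻¹⁻¹ := by rw [inv_inv]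
      rw [e2]
      exact D.nor1 _ (inv_mem (D.le2 hc₂)) _ (mul_mem (inv_mem hc₁) ha₁)

theorem pr_conj (hz : z ^ 2 ∈ H) (n m : G) (hm : m ∈ H) (h : m = z⁻¹ * n * z) (hn' : z * n * z⁻¹ ∈ H) :
    f ⟨z * n * z⁻¹, hn'⟩ = f ⟨z ^ 2, hz⟩ * f ⟨m, hm⟩ * (f ⟨z ^ 2, hz⟩)⁻¹ := by
  rw [← map_inv, ← map_mul, ← map_mul]
  congr 1
  apply Subtype.ext
  subst h
  show z * n * z⁻¹ = z ^ 2 * (z⁻¹ * n * z) * (z ^ 2)⁻¹
  group

include hNH in
theorem ncard_gsx_LL [Finite G] [Finite G'] [N.Normal] [(LL f N).Normal] (D : SwapData N N₁ N₂ z)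
    (hk : ∀ h : H, f h = 1 ↔ (h : G) ∈ N₂) (hz : z ^ 2 ∈ H) :
    (gsx N z).ncard = (gsx (LL f N) (f ⟨z ^ 2, hz⟩)).ncard := by
  refine ncard_gsx N z (LL f N) _ (MulEquiv.ofBijective (EE hNH f z) (EE_bij hNH f D hk)) fun n => ?_
  have e1 : ((MulAut.conjNormal z n : N) : G) = z * (n : G) * z⁻¹ := MulAut.conjNormal_apply z n
  have e2 : ((MulAut.conjNormal z⁻¹ n : N) : G) = z⁻¹ * (n : G) * z := by
    rw [MulAut.conjNormal_apply, inv_inv]
  have e3 : MulAut.conjNormal z⁻¹ (MulAut.conjNormal z n) = n := by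
    rw [← MulAut.mul_apply, ← map_mul, inv_mul_cancel, map_one, MulAut.one_apply]
  refine Prod.ext (Subtype.ext ?_) ?_
  · show f ⟨((MulAut.conjNormal z n : N) : G), _⟩ =
      ((MulAut.conjNormal (f ⟨z ^ 2, hz⟩) (pr hNH f (MulAut.conjNormal z⁻¹ n)) : LL f N) : G')
    have e4 : ((MulAut.conjNormal (f ⟨z ^ 2, hz⟩) (pr hNH f (MulAut.conjNormal z⁻¹ n)) : LL f N) : G') =
        f ⟨z ^ 2, hz⟩ * f ⟨((MulAut.conjNormal z⁻¹ n : N) : G), hNH (MulAut.conjNormal z⁻¹ n).2⟩ *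
          (f ⟨z ^ 2, hz⟩)⁻¹ := MulAut.conjNormal_apply _ _
    rw [e4]
    have h1 : z * (n : G) * z⁻¹ ∈ H := e1 ▸ hNH (MulAut.conjNormal z n).2
    have h2 := pr_conj f hz n _ (hNH (MulAut.conjNormal z⁻¹ n).2) e2 h1
    rw [← h2]
    congr 1
  · show pr hNH f (MulAut.conjNormal z⁻¹ (MulAut.conjNormal z n)) = pr hNH f n
    rw [e3]

include hNH in
theorem card_LL [Finite G] [N.Normal] (D : SwapData N N₁ N₂ z) (hk : ∀ h : H, f h = 1 ↔ (h : G) ∈ N₂) :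
    Nat.card N = Nat.card (LL f N) * Nat.card (LL f N) := by
  rw [← Nat.card_prod]
  exact Nat.card_congr (Equiv.ofBijective _ (EE_bij hNH f D hk))

/-- the projection for the Sylow subgroups -/
def prQ {P : Subgroup G} {P' : Subgroup G'} (hP : ∀ (g : G) (hg : g ∈ H), g ∈ P → f ⟨g, hg⟩ ∈ P') :
    ↥(N ⊓ P) →* ↥(LL f N ⊓ P') where
  toFun n := ⟨f ⟨n, hNH n.2.1⟩, ⟨⟨n, hNH n.2.1⟩, n.2.1, rfl⟩, hP _ _ n.2.2⟩
  map_one' := Subtype.ext (map_one f)
  map_mul' a b := Subtype.ext (map_mul f ⟨a, hNH a.2.1⟩ ⟨b, hNH b.2.1⟩)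

/-- conjugation by `z⁻¹` on `N ⊓ P` -/
def cz [N.Normal] {P : Subgroup G} (hz : z ∈ P) : ↥(N ⊓ P) →* ↥(N ⊓ P) where
  toFun n := ⟨z⁻¹ * n * z, by
    have := Subgroup.Normal.conj_mem (H := N) inferInstance n n.2.1 z⁻¹
    rwa [inv_inv] at this, P.mul_mem (P.mul_mem (P.inv_mem hz) n.2.2) hz⟩
  map_one' := Subtype.ext (by simp)
  map_mul' a b := Subtype.ext (by
    show z⁻¹ * ((a : G) * b) * z = (z⁻¹ * a * z) * (z⁻¹ * b * z)
    group)

/-- both projections -/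
def EQ [N.Normal] {P : Subgroup G} {P' : Subgroup G'}
    (hP : ∀ (g : G) (hg : g ∈ H), g ∈ P → f ⟨g, hg⟩ ∈ P') (hz : z ∈ P) :
    ↥(N ⊓ P) →* ↥(LL f N ⊓ P') × ↥(LL f N ⊓ P') :=
  (prQ hNH f hP).prod ((prQ hNH f hP).comp (cz hz))

theorem EQ_bij [Finite G] [Finite G'] [N.Normal] (D : SwapData N N₁ N₂ z)
    (hk : ∀ h : H, f h = 1 ↔ (h : G) ∈ N₂) (P : Sylow 2 G) (P' : Sylow 2 G')
    (hP : ∀ (g : G) (hg : g ∈ H), g ∈ (P : Subgroup G) → f ⟨g, hg⟩ ∈ (P' : Subgroup G')) (hz : z ∈ (P : Subgroup G)) :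
    Function.Bijective (EQ hNH f hP hz) := by
  have : Fact (Nat.Prime 2) := ⟨Nat.prime_two⟩
  have hinj : Function.Injective (EQ hNH f hP hz) := by
    rw [injective_iff_map_eq_one]
    intro n hn
    have h1 : (n : G) ∈ N₂ := (hk ⟨n, hNH n.2.1⟩).1 (congrArg Subtype.val (congrArg Prod.fst hn))
    have h2 : z⁻¹ * (n : G) * z ∈ N₂ :=
      (hk ⟨_, hNH (cz hz n).2.1⟩).1 (congrArg Subtype.val (congrArg Prod.snd hn))
    have h4 := D.z21 _ h2
    have e : z * (z⁻¹ * (n : G) * z) * z⁻¹ = n := by group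
    rw [e] at h4
    exact Subtype.ext (D.inf _ h4 h1)
  refine (Nat.bijective_iff_injective_and_card _).2 ⟨hinj, ?_⟩
  refine le_antisymm (Nat.card_le_card_of_injective _ hinj) ?_
  rw [Nat.card_prod]
  obtain ⟨a, ha⟩ := IsPGroup.iff_card.1 (P'.isPGroup'.to_le (inf_le_right : LL f N ⊓ (P' : Subgroup G') ≤ P'))
  rw [ha]
  have h1 : 2 ^ a ∣ Nat.card (LL f N) := ha ▸ Subgroup.card_dvd_of_le inf_le_left
  have h2 : 2 ^ a * 2 ^ a ∣ Nat.card N := by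
    rw [card_LL hNH f D hk]
    exact mul_dvd_mul h1 h1
  have h3 := relIndex_mul_relIndex ⊥ (N ⊓ (P : Subgroup G)) N bot_le inf_le_left
  rw [relIndex_bot_left, relIndex_bot_left, inf_relIndex_left] at h3
  rw [← h3] at h2
  have h4 : Nat.Coprime (2 ^ a * 2 ^ a) ((P : Subgroup G).relIndex N) := by
    rw [← pow_add]
    exact Nat.Coprime.pow_left _ ((Nat.Prime.coprime_iff_not_dvd Nat.prime_two).2
      (Cfsg.Agent.Transfer.FrobeniusFusion.not_dvd_relIndex_of_normal P N))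
  exact Nat.le_of_dvd Nat.card_pos (h4.dvd_of_dvd_mul_right h2)

include hNH in
theorem card_homx_LL [Finite G] [Finite G'] [N.Normal] [(LL f N).Normal] (D : SwapData N N₁ N₂ z)
    (hk : ∀ h : H, f h = 1 ↔ (h : G) ∈ N₂) (P : Sylow 2 G) (P' : Sylow 2 G')
    (hP : ∀ (g : G) (hg : g ∈ H), g ∈ (P : Subgroup G) → f ⟨g, hg⟩ ∈ (P' : Subgroup G')) (hz : z ∈ (P : Subgroup G))
    (hz2 : z ^ 2 ∈ H) :
    Nat.card {l : ↥(N ⊓ (P : Subgroup G)) →* ℤˣ //
      ∀ (q : ↥(N ⊓ (P : Subgroup G))) (h : z * q * z⁻¹ ∈ N ⊓ (P : Subgroup G)), l ⟨z * q * z⁻¹, h⟩ = l q} =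
    Nat.card {l : ↥(LL f N ⊓ (P' : Subgroup G')) →* ℤˣ //
      ∀ (q : ↥(LL f N ⊓ (P' : Subgroup G'))) (h : f ⟨z ^ 2, hz2⟩ * q * (f ⟨z ^ 2, hz2⟩)⁻¹ ∈ LL f N ⊓ (P' : Subgroup G')),
        l ⟨f ⟨z ^ 2, hz2⟩ * q * (f ⟨z ^ 2, hz2⟩)⁻¹, h⟩ = l q} := by
  have hyP : f ⟨z ^ 2, hz2⟩ ∈ (P' : Subgroup G') := hP _ _ (pow_mem hz 2)
  have c1 : ∀ q ∈ N ⊓ (P : Subgroup G), z * q * z⁻¹ ∈ N ⊓ (P : Subgroup G) := fun q hq =>
    mem_inf.2 ⟨Subgroup.Normal.conj_mem inferInstance q hq.1 z, mul_mem (mul_mem hz hq.2) (inv_mem hz)⟩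
  have c2 : ∀ q ∈ LL f N ⊓ (P' : Subgroup G'),
      f ⟨z ^ 2, hz2⟩ * q * (f ⟨z ^ 2, hz2⟩)⁻¹ ∈ LL f N ⊓ (P' : Subgroup G') := fun q hq =>
    mem_inf.2 ⟨Subgroup.Normal.conj_mem inferInstance q hq.1 _, mul_mem (mul_mem hyP hq.2) (inv_mem hyP)⟩
  refine card_homx _ z c1 _ _ c2 (MulEquiv.ofBijective (EQ hNH f hP hz) (EQ_bij hNH f D hk P P' hP hz)) fun q => ?_
  refine Prod.ext (Subtype.ext ?_) (Subtype.ext ?_)
  · exact pr_conj f hz2 q (z⁻¹ * q * z) (hNH (cz hz q).2.1) rfl (hNH (c1 q q.2).1)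
  · show f ⟨z⁻¹ * (z * (q : G) * z⁻¹) * z, _⟩ = f ⟨(q : G), _⟩
    congr 1
    apply Subtype.ext
    show z⁻¹ * (z * (q : G) * z⁻¹) * z = q
    group

end main

/-- the 2-residual of a subgroup containing the 2-residual -/
theorem residual_eq {N H : Subgroup G} (hN : N = pResidual 2 G) (hNH : N ≤ H) : pResidual 2 H = N.subgroupOf H := by
  apply le_antisymm
  · rw [Cfsg.Agent.Transfer.Residual.pResidual_def, closure_le]
    intro h hh
    show (h : G) ∈ N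
    rw [hN]
    refine Cfsg.Agent.Transfer.Residual.mem_pResidual_of_coprime ?_
    rw [Subgroup.orderOf_coe]
    exact hh
  · have h1 : N ≤ (pResidual 2 H).map H.subtype := by
      rw [hN, Cfsg.Agent.Transfer.Residual.pResidual_def, closure_le]
      intro g hg
      have hgN : g ∈ N := by
        rw [hN]
        exact Cfsg.Agent.Transfer.Residual.mem_pResidual_of_coprime hg
      refine ⟨⟨g, hNH hgN⟩, Cfsg.Agent.Transfer.Residual.mem_pResidual_of_coprime ?_, rfl⟩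
      rw [Subgroup.orderOf_mk]
      exact hg
    intro h hh
    obtain ⟨h', hh', he⟩ := h1 (show (h : G) ∈ N from hh)
    have : h' = h := Subtype.ext he
    rwa [← this]

theorem LL_residual [Finite G] {N H : Subgroup G} (hN : N = pResidual 2 G) (hNH : N ≤ H) {G' : Type u} [Group G']
    (f : H →* G') (hf : Function.Surjective f) : LL f N = pResidual 2 G' := by
  have : Fact (Nat.Prime 2) := ⟨Nat.prime_two⟩
  rw [LL, ← residual_eq hN hNH]
  exact Cfsg.Agent.Transfer.Residual.map_pResidual_of_surjective f hf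

theorem LL_sup {N : Subgroup G} [N.Normal] {H : Subgroup G} (hNH : N ≤ H) {z : G} (hz : z ∈ H)
    (hH : H ≤ N ⊔ zpowers z) {G' : Type u} [Group G'] (f : H →* G') (hf : Function.Surjective f) :
    LL f N ⊔ zpowers (f ⟨z, hz⟩) = ⊤ := by
  rw [eq_top_iff]
  intro g _
  obtain ⟨h, rfl⟩ := hf g
  obtain ⟨n, hn, b, hb, he⟩ := mem_sup_of_normal_left.1 (hH h.2)
  obtain ⟨i, rfl⟩ := mem_zpowers_iff.1 hb
  have e : h = ⟨n, hNH hn⟩ * (⟨z, hz⟩ : H) ^ i := Subtype.ext he.symm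
  rw [e, map_mul, map_zpow]
  exact mul_mem (mem_sup_left ⟨⟨n, hNH hn⟩, hn, rfl⟩) (mem_sup_right (zpow_mem (mem_zpowers _) i))

/-- a noncyclic 2-group has at least four homomorphisms into `±1` -/
theorem three_le_card_hom {P : Type u} [Group P] [Finite P] (hP : IsPGroup 2 P) (hc : ¬ IsCyclic P) :
    3 ≤ Nat.card (P →* ℤˣ) := by
  have h0 := H396.K547.card_hom_frattini hP
  obtain ⟨n, hn⟩ := H396.K547.card_hom_pow (P := P)
  have h2 : (frattini P).index ≠ 2 := fun h => hc (H618.Complement.isCyclic_of_frattini h)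
  have h1 : (frattini P).index ≠ 1 := by
    intro h
    rw [index_eq_one] at h
    have h3 : (⊥ : Subgroup P) = ⊤ := frattini_nongenerating (by rw [h, bot_sup_eq])
    apply hc
    have : Subsingleton P := ⟨fun a b => by
      have ha : a ∈ (⊥ : Subgroup P) := h3 ▸ mem_top a
      have hb : b ∈ (⊥ : Subgroup P) := h3 ▸ mem_top b
      rw [mem_bot] at ha hb
      rw [ha, hb]⟩
    exact isCyclic_of_subsingleton
  have h4 : 0 < Nat.card (P →* ℤˣ) := by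
    rw [hn]
    positivity
  omega

/-- the 2-part of `x` -/
theorem exists_twopart [Finite G] {N N₁ N₂ : Subgroup G} [N.Normal] (hN : N = pResidual 2 G) {x : G}
    (hx : N ⊔ zpowers x = ⊤) (D : SwapData N N₁ N₂ x) :
    ∃ z : G, IsPGroup 2 (zpowers z) ∧ N ⊔ zpowers z = ⊤ ∧ SwapData N N₁ N₂ z := by
  obtain ⟨z, w, hzw, hc, ⟨j, hj⟩, hw⟩ := Cfsg.Agent.H618.Sigma.exists_decomp x
  have hwN : w ∈ N := by
    rw [hN]
    exact Cfsg.Agent.Transfer.Residual.mem_pResidual_of_coprime (Nat.coprime_two_right.2 hw)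
  refine ⟨z, IsPGroup.of_card (by rw [Nat.card_zpowers, hj]), ?_, ?_⟩
  · rw [eq_top_iff, ← hx]
    refine sup_le le_sup_left ?_
    rw [zpowers_le, ← hzw]
    exact mul_mem (mem_sup_right (mem_zpowers z)) (mem_sup_left hwN)
  · have := D.mul (inv_mem hwN)
    have e : x * w⁻¹ = z := by rw [← hzw]; group
    rwa [e] at this

/-- all good characters of `⊤` -/
theorem gsx_top [Finite G] (y : G) : (gsx (⊤ : Subgroup G) y).ncard = fg G := by
  refine Set.ncard_congr (fun θ _ g => θ ⟨g, mem_top g⟩) (fun θ hθ => ?_) (fun θ ψ _ _ h => ?_) (fun χ hχ => ?_)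
  · exact H740.K4.good_comp (topEquiv (G := G)).symm hθ.1
  · funext n
    exact congrFun h n
  · refine ⟨fun n => χ n, ⟨H740.K4.good_comp (topEquiv (G := G)) hχ, fun n => ?_⟩, rfl⟩
    show χ (MulAut.conjNormal y n : (⊤ : Subgroup G)) = χ n
    rw [MulAut.conjNormal_apply]
    exact Cfsg.Agent.Characters.Core.isIrr_isClassFunction (Good.odd hχ).1 _ _

/-- all homomorphisms of `⊤ ⊓ P` -/
theorem card_homx_top (P : Subgroup G) {y : G} (hy : y ∈ P) :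
    Nat.card {l : ↥((⊤ : Subgroup G) ⊓ P) →* ℤˣ //
      ∀ (q : ↥((⊤ : Subgroup G) ⊓ P)) (h : y * q * y⁻¹ ∈ (⊤ : Subgroup G) ⊓ P), l ⟨y * q * y⁻¹, h⟩ = l q} =
    Nat.card (↥P →* ℤˣ) := by
  have e : (⊤ : Subgroup G) ⊓ P = P := top_inf_eq P
  have h1 : ∀ Q : Subgroup G, Q = P → Nat.card {l : ↥Q →* ℤˣ //
      ∀ (q : ↥Q) (h : y * q * y⁻¹ ∈ Q), l ⟨y * q * y⁻¹, h⟩ = l q} = Nat.card (↥P →* ℤˣ) := by
    rintro Q rfl
    refine Nat.card_congr (Equiv.subtypeUnivEquiv fun l q h => ?_)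
    have e1 : (⟨y * q * y⁻¹, h⟩ : Q) = ⟨y, hy⟩ * q * ⟨y, hy⟩⁻¹ := rfl
    rw [e1, map_mul, map_mul, mul_comm, ← mul_assoc, ← map_mul, inv_mul_cancel, map_one, one_mul]
  exact h1 _ e

/-- a nontrivial 2-perfect group -/
theorem not_isCyclic {G' : Type u} [Group G'] [Finite G'] (P' : Sylow 2 G') (hL : pResidual 2 G' = ⊤)
    (hev : 2 ∣ Nat.card G') : ¬ IsCyclic P' := by
  intro hc
  have : Fact (Nat.Prime 2) := ⟨Nat.prime_two⟩
  have hp : (Nat.card G').minFac = 2 := (Nat.minFac_eq_two_iff _).2 hev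
  have h1 := hc.normalizer_le_centralizer hp
  have h2 := MonoidHom.not_dvd_card_ker_transferSylow P' h1
  have h3 := Cfsg.Agent.Transfer.Residual.pResidual_le_ker (P'.isPGroup') (MonoidHom.transferSylow P' h1)
  rw [hL, top_le_iff] at h3
  rw [h3, card_top] at h2
  exact h2 hev

theorem swap_core [Finite G] {N N₁ N₂ : Subgroup G} [N.Normal] (hN : N = pResidual 2 G) (hNt : N ≠ ⊤) {z : G}
    (hz : IsPGroup 2 (zpowers z)) (hx : N ⊔ zpowers z = ⊤) (D : SwapData N N₁ N₂ z) {H : Subgroup G} (hNH : N ≤ H)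
    (hzH : z ^ 2 ∈ H) (hH : H ≤ N ⊔ zpowers (z ^ 2)) {G' : Type u} [Group G'] [Finite G'] (f : H →* G')
    (hf : Function.Surjective f) (hk : ∀ h : H, f h = 1 ↔ (h : G) ∈ N₂) (hT : TT G') : TT G := by
  have : Fact (Nat.Prime 2) := ⟨Nat.prime_two⟩
  obtain ⟨P, hP⟩ := hz.exists_le_sylow
  have hzP : z ∈ (P : Subgroup G) := hP (mem_zpowers z)
  have hPf : IsPGroup 2 (((P : Subgroup G).subgroupOf H).map f) :=
    (P.isPGroup'.comap_of_injective H.subtype H.subtype_injective).map f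
  obtain ⟨P', hP'⟩ := hPf.exists_le_sylow
  have hPP : ∀ (g : G) (hg : g ∈ H), g ∈ (P : Subgroup G) → f ⟨g, hg⟩ ∈ (P' : Subgroup G') := fun g hg hgP =>
    hP' ⟨⟨g, hg⟩, hgP, rfl⟩
  have := LL_normal (N := N) f hf
  have hL : LL f N = pResidual 2 G' := LL_residual hN hNH f hf
  have hs : LL f N ⊔ zpowers (f ⟨z ^ 2, hzH⟩) = ⊤ := LL_sup hNH hzH hH f hf
  have hyP : f ⟨z ^ 2, hzH⟩ ∈ (P' : Subgroup G') := hPP _ _ (pow_mem hzP 2)
  have a1 := H220.K547.fg_residual N hN hNt z hx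
  have a2 := H220.K547.card_hom_residual P N hN hNt z hzP hx
  rw [ncard_gsx_LL hNH f D hk hzH] at a1
  rw [card_homx_LL hNH f D hk P P' hPP hzP hzH] at a2
  rw [TT, H396.K547.d3_iff P, a2, a1]
  by_cases hLt : LL f N = ⊤
  · have b1 : (gsx (LL f N) (f ⟨z ^ 2, hzH⟩)).ncard = fg G' := by
      have : ∀ (L : Subgroup G') [L.Normal], L = ⊤ → (gsx L (f ⟨z ^ 2, hzH⟩)).ncard = fg G' := by
        rintro L _ rfl
        exact gsx_top _
      exact this _ hLt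
    have b2 : Nat.card {l : ↥(LL f N ⊓ (P' : Subgroup G')) →* ℤˣ // ∀ (q : ↥(LL f N ⊓ (P' : Subgroup G')))
        (h : f ⟨z ^ 2, hzH⟩ * q * (f ⟨z ^ 2, hzH⟩)⁻¹ ∈ LL f N ⊓ (P' : Subgroup G')),
          l ⟨f ⟨z ^ 2, hzH⟩ * q * (f ⟨z ^ 2, hzH⟩)⁻¹, h⟩ = l q} = Nat.card (↥P' →* ℤˣ) := by
      rw [hLt]
      exact card_homx_top (P' : Subgroup G') hyP
    rw [b1, b2]
    rw [hL] at hLt
    by_cases hev : 2 ∣ Nat.card G'
    · have c1 := not_isCyclic P' hLt hev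
      have c2 : 3 ≤ Nat.card (↥P' →* ℤˣ) := three_le_card_hom P'.isPGroup' c1
      rw [isCyclic_iff_fg (even_iff_two_dvd.2 hev)] at c1
      obtain ⟨m, c3⟩ := even_fg (G := G') (even_iff_two_dvd.2 hev)
      have c4 := fg_pos (G := G')
      constructor <;> intro <;> omega
    · have c1 := fg_of_odd hev
      have c2 := H396.K547.card_hom_frattini P'.isPGroup'
      obtain ⟨n, hn⟩ := H396.K547.card_hom_pow (P := (P' : Subgroup G'))
      have c3 : n = 0 := by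
        by_contra hn0
        apply hev
        refine (dvd_pow_self 2 hn0).trans ?_
        rw [← hn, c2]
        exact (index_dvd_card _).trans (card_subgroup_dvd_card _)
      have c4 : Nat.card (↥P' →* ℤˣ) = 1 := by
        rw [c3] at hn
        exact hn
      constructor <;> intro <;> omega
  · have b1 := H220.K547.fg_residual (LL f N) hL hLt _ hs
    have b2 := H220.K547.card_hom_residual P' (LL f N) hL hLt _ hyP hs
    rw [← b1, ← b2, ← H396.K547.d3_iff P']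
    exact hT

/-- **[K2]: two factors of `O²(G)` which are swapped.** -/
theorem swap [Finite G] (N : Subgroup G) [N.Normal] (hN : N = pResidual 2 G) (hne : N ≠ ⊥) (x : G)
    (hx : N ⊔ zpowers x = ⊤) (N₁ N₂ : Subgroup G) (h1 : N₁ ⊓ N₂ = ⊥) (h2 : N₁ ⊔ N₂ = N)
    (h3 : ∀ a ∈ N₁, ∀ b ∈ N₂, Commute a b)
    (h4 : N₁.map (MulAut.conj x).toMonoidHom = N₂) (h5 : N₂.map (MulAut.conj x).toMonoidHom = N₁) :
    ∃ (G' : Type u) (_ : Group G') (_ : Finite G'), Nat.card G' < Nat.card G ∧ (TT G' → TT G) := by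
  obtain ⟨z, hz, hx', D⟩ := exists_twopart hN hx (SwapData.mk' h1 h2 h3 h4 h5)
  set H : Subgroup G := N ⊔ zpowers (z ^ 2) with hH
  have hNH : N ≤ H := le_sup_left
  have hzH : z ^ 2 ∈ H := mem_sup_right (mem_zpowers _)
  have hHn : H ≤ normalizer (N₂ : Set G) := by
    refine sup_le (fun n hn => ?_) ?_
    · rw [mem_normalizer_iff]
      refine fun g => ⟨D.nor2 n hn g, fun hg => ?_⟩
      have := D.nor2 n⁻¹ (inv_mem hn) _ hg
      have e : n⁻¹ * (n * g * n⁻¹) * n⁻¹⁻¹ = g := by group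
      rwa [e] at this
    · rw [zpowers_le, mem_normalizer_iff]
      refine fun g => ⟨fun hg => ?_, fun hg => ?_⟩
      · have := D.z12 _ (D.z21 g hg)
        have e : z * (z * g * z⁻¹) * z⁻¹ = z ^ 2 * g * (z ^ 2)⁻¹ := by
          rw [pow_two]
          group
        rwa [e] at this
      · have := D.z12' _ (D.z21' _ hg)
        have e : z⁻¹ * (z⁻¹ * (z ^ 2 * g * (z ^ 2)⁻¹) * z) * z = g := by
          rw [pow_two]
          group
        rwa [e] at this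
  have hzn : z ∉ H := by
    intro h
    have h6 := mem_normalizer_iff.1 (hHn h)
    have h7 : ∀ g ∈ N₂, g = 1 := by
      intro g hg
      have h8 := D.inf _ (D.z21 g hg) ((h6 g).1 hg)
      have e : g = z⁻¹ * (z * g * z⁻¹) * z := by group
      rw [e, h8]
      group
    apply hne
    rw [eq_bot_iff]
    intro g hg
    obtain ⟨a, ha, b, hb, rfl⟩ := D.dec g hg
    have h8 := h7 _ (D.z12 a ha)
    have e : a = z⁻¹ * (z * a * z⁻¹) * z := by group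
    rw [mem_bot, h7 b hb, mul_one, e, h8]
    group
  have hHt : H ≠ ⊤ := fun h => hzn (h ▸ mem_top z)
  have hNt : N ≠ ⊤ := fun h => hHt (top_le_iff.1 (h ▸ hNH))
  have hN2 : N₂ ≤ H := D.le2.trans hNH
  have hnorm : (N₂.subgroupOf H).Normal := by
    refine ⟨fun n hn g => ?_⟩
    exact (mem_normalizer_iff.1 (hHn g.2) n).1 hn
  have hlt : Nat.card H < Nat.card G := by
    refine lt_of_le_of_ne (card_le_card_group H) fun h => hHt ?_
    exact eq_top_of_card_eq H h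
  refine ⟨H ⧸ N₂.subgroupOf H, inferInstance, inferInstance, ?_, fun hT => ?_⟩
  · exact lt_of_le_of_lt (Nat.card_le_card_of_surjective _ (QuotientGroup.mk'_surjective _)) hlt
  · exact swap_core hN hNt hz hx' D hNH hzH le_rfl (QuotientGroup.mk' (N₂.subgroupOf H))
      (QuotientGroup.mk'_surjective _) (fun h => by
        rw [QuotientGroup.mk'_apply, QuotientGroup.eq_one_iff, mem_subgroupOf]) hT

end Cfsg.Agent.H191.K547
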